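import Cfsg.Agent.H700.DM.Defs
import Cfsg.Agent.H203.OrthHeis
import Cfsg.Agent.H203.BdSL2
import Cfsg.Agent.H175.BdSL
import Cfsg.Agent.H175.BdSU
import Cfsg.Agent.H175.BdSp
import Cfsg.Agent.H990.TC.PDLin

/-!
# Low degrees of quasisimple groups of Lie type (helper887, S4907: DM04, DM06, DM07, DM08)

* `lowDeg_of_bd` : from `H912.Bd.Bd ℂ p B T` to `LowDeg B H`;
* rows for `PSL`, `PSU`, `PSp`, `POmega`.
-/

set_option autoImplicit false

namespace Cfsg.Agent.H887.DM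

open Cfsg Subgroup Cfsg.Agent.H700.DM Cfsg.Agent.H912.Bd

universe u v

/-- A trivial irreducible representation has dimension one. -/
theorem dim_of_trivial {H : Type u} [Group H] {n : ℕ} (ρ : Representation ℂ H (Fin n → ℂ)) (hρ : ρ.IsIrreducible)
    (htriv : ∀ (g : H) (v : Fin n → ℂ), ρ g v = v) : n ≤ 1 := by
  by_contra hk
  let a : Fin n := ⟨0, by omega⟩
  let b : Fin n := ⟨1, by omega⟩
  have hab : a ≠ b := by
    intro h
    have := congrArg Fin.val h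
    simp [a, b] at this
  let W : Subrepresentation ρ := ⟨Submodule.span ℂ {Pi.single a 1}, fun g v hv => by
    rw [htriv]; exact hv⟩
  rcases hρ.eq_bot_or_eq_top W with h2 | h2
  · have h3 : (Pi.single a (1 : ℂ) : Fin n → ℂ) ∈ W.toSubmodule := Submodule.mem_span_singleton_self _
    rw [h2] at h3
    have h4 : (Pi.single a (1 : ℂ) : Fin n → ℂ) ∈ (⊥ : Submodule ℂ (Fin n → ℂ)) := h3
    have h5 := congrFun ((Submodule.mem_bot ℂ).1 h4) a
    rw [Pi.single_eq_same] at h5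
    exact one_ne_zero h5
  · have h3 : (Pi.single b (1 : ℂ) : Fin n → ℂ) ∈ W.toSubmodule := by rw [h2]; exact Submodule.mem_top
    obtain ⟨c, hc⟩ := Submodule.mem_span_singleton.1 h3
    have h5 := congrFun hc b
    rw [Pi.smul_apply, Pi.single_eq_of_ne hab.symm, Pi.single_eq_same, smul_zero] at h5
    exact zero_ne_one h5

/-- An irreducible representation has positive dimension. -/
theorem dim_pos {H : Type u} [Group H] {n : ℕ} (ρ : Representation ℂ H (Fin n → ℂ)) (hρ : ρ.IsIrreducible) :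
    0 < n := by
  rcases Nat.eq_zero_or_pos n with h | h
  · subst h
    exfalso
    have h1 : (⊥ : Subrepresentation ρ) ≠ ⊤ := (hρ.toNontrivial).exists_pair_ne.elim fun x hx => by
      obtain ⟨y, hxy⟩ := hx
      intro h0
      apply hxy
      have hsub : Subsingleton (Subrepresentation ρ) := subsingleton_of_bot_eq_top h0
      exact Subsingleton.elim _ _
    apply h1
    apply SetLike.ext
    intro x
    have hx : x = 0 := Subsingleton.elim _ _
    subst hx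
    exact ⟨fun _ => trivial, fun _ => (⊥ : Subrepresentation ρ).toSubmodule.zero_mem⟩
  · exact h

/-- **DM04 (a)** -/
theorem lowDeg_of_bd {p B : ℕ} {H : Type u} [Group H] [Finite H] (hp : p.Prime) (hq : Cfsg.IsQuasisimple H)
    (hcop : ¬ p ∣ Nat.card (center H)) {T : Type v} [Group T] (e : H ⧸ center H ≃* T)
    (hB : Bd ℂ p B T) : LowDeg B H := by
  intro χ
  obtain ⟨n, ρ, hρ, hχ⟩ := χ.2
  have hdeg : charDegree (χ : H → ℂ) = n := by
    have h1 : (χ : H → ℂ) 1 = n := by rw [← hχ, Representation.char_one, Module.finrank_fin_fun]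
    rw [charDegree, h1, Complex.natCast_re, Nat.floor_natCast]
  rw [hdeg]
  have hpos := dim_pos ρ hρ
  by_cases hn : n = 1
  · exact Or.inl hn
  right
  have hker : (ρ : H →* ((Fin n → ℂ) →ₗ[ℂ] (Fin n → ℂ))).ker ≤ center H := by
    have hperf : commutator H = ⊤ := hq.1.commutator_eq_top
    have hs := hq.2
    rcases Cfsg.Agent.H990.TC.le_center_or_top hperf hs
      (ρ : H →* ((Fin n → ℂ) →ₗ[ℂ] (Fin n → ℂ))).ker with h | h
    · exact h
    · exfalso
      have htriv : ∀ (g : H) (v : Fin n → ℂ), ρ g v = v := by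
        intro g v
        have h2 : g ∈ (ρ : H →* ((Fin n → ℂ) →ₗ[ℂ] (Fin n → ℂ))).ker := by rw [h]; trivial
        rw [MonoidHom.mem_ker] at h2
        exact congrArg (fun f : (Fin n → ℂ) →ₗ[ℂ] (Fin n → ℂ) => f v) h2
      have := dim_of_trivial ρ hρ htriv
      omega
  let e0 : Shrink.{0} H ≃* H := Shrink.mulEquiv
  let e1 : ((Fin n → ℂ) →ₗ[ℂ] (Fin n → ℂ))ˣ ≃* Matrix.GeneralLinearGroup (Fin n) ℂ :=
    (Matrix.GeneralLinearGroup.toLin (n := Fin n) (R := ℂ)).symm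
  let ρ' : H →* Matrix.GeneralLinearGroup (Fin n) ℂ :=
    e1.toMonoidHom.comp (MonoidHom.toHomUnits (ρ : H →* ((Fin n → ℂ) →ₗ[ℂ] (Fin n → ℂ))))
  let π : H →* T := e.toMonoidHom.comp (QuotientGroup.mk' (center H))
  have hπ : ∀ x : H, π x = 1 ↔ x ∈ center H := by
    intro x
    show e (QuotientGroup.mk' (center H) x) = 1 ↔ _
    rw [map_eq_one_iff e e.injective]
    exact QuotientGroup.eq_one_iff x
  refine hB n ⟨Shrink.{0} H, inferInstance, π.comp e0.toMonoidHom, ρ'.comp e0.toMonoidHom, ?_, ?_, ?_, ?_⟩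
  · exact (e.surjective.comp (QuotientGroup.mk'_surjective _)).comp e0.surjective
  · intro x hx y
    have h1 : e0 x ∈ center H := (hπ _).1 hx
    apply e0.injective
    rw [map_mul, map_mul]
    exact (mem_center_iff.1 h1 (e0 y)).symm
  · have h1 : Nat.card (π.comp e0.toMonoidHom).ker = Nat.card (center H) := by
      refine Nat.card_congr ⟨fun x => ⟨e0 x.1, (hπ _).1 x.2⟩, fun x => ⟨e0.symm x.1, ?_⟩, fun x => ?_, fun x => ?_⟩
      · rw [MonoidHom.mem_ker]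
        show π (e0 (e0.symm x.1)) = 1
        rw [e0.apply_symm_apply]
        exact (hπ _).2 x.2
      · exact Subtype.ext (e0.symm_apply_apply _)
      · exact Subtype.ext (e0.apply_symm_apply _)
    rw [h1]
    exact ((Nat.Prime.coprime_iff_not_dvd hp).2 hcop).symm
  · intro x hx
    have h1 : ρ' (e0 x) = 1 := hx
    have h2 : MonoidHom.toHomUnits (ρ : H →* ((Fin n → ℂ) →ₗ[ℂ] (Fin n → ℂ))) (e0 x) = 1 :=
      (map_eq_one_iff e1 e1.injective).1 h1
    have h3 : e0 x ∈ (ρ : H →* ((Fin n → ℂ) →ₗ[ℂ] (Fin n → ℂ))).ker := by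
      rw [MonoidHom.mem_ker]
      exact congrArg Units.val h2
    show π (e0 x) = 1
    exact (hπ _).2 (hker h3)

theorem LowDeg.mono {B B' : ℕ} {H : Type u} [Group H] (h : LowDeg B H) (hB : B' ≤ B) : LowDeg B' H :=
  fun χ => (h χ).imp id (fun h1 => hB.trans h1)

/-! ### the rows -/

section rows

variable {F : Type} [Field F] [Fintype F] {p : ℕ} [hp : Fact p.Prime] [CharP F p] {H : Type u} [Group H] [Finite H]

omit [Fintype F] [Finite H] in
theorem hpC (p : ℕ) [hp : Fact p.Prime] : (p : ℂ) ≠ 0 := by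
  exact_mod_cast hp.out.ne_zero

/-- `PSL_n`, `n ≥ 3` -/
theorem low_psl (hq : Cfsg.IsQuasisimple H) (hcop : ¬ p ∣ Nat.card (center H)) {n : ℕ} (hn : 3 ≤ n)
    (e : H ⧸ center H ≃* Matrix.ProjectiveSpecialLinearGroup (Fin n) F) :
    LowDeg (Fintype.card F ^ (n - 1) - 1) H :=
  lowDeg_of_bd hp.out hq hcop (MulEquiv.refl _)
    (Cfsg.Agent.H175.BdSL.bd_psl hp.out rfl hn (hpC p) e)

/-- `PSL_2` -/
theorem low_psl2 (hq : Cfsg.IsQuasisimple H) (hcop : ¬ p ∣ Nat.card (center H))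
    (e : H ⧸ center H ≃* Matrix.ProjectiveSpecialLinearGroup (Fin 2) F) :
    LowDeg ((Fintype.card F - 1) / Nat.gcd 2 (Fintype.card F - 1)) H := by
  refine lowDeg_of_bd hp.out hq hcop (MulEquiv.refl _) (Cfsg.Agent.H203.BdSL2.bd_of_sl2 hp.out rfl (hpC p)
    (e.symm.toMonoidHom.comp (QuotientGroup.mk' _)) ?_)
  intro x hx
  have h1 : e.symm (QuotientGroup.mk' _ x) = 1 := hx
  rw [map_eq_one_iff e.symm e.symm.injective] at h1
  exact (QuotientGroup.eq_one_iff x).1 h1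

/-- `PSL_n`, the common bound -/
theorem low_psl' (hq : Cfsg.IsQuasisimple H) (hcop : ¬ p ∣ Nat.card (center H)) {n : ℕ} (hn : 2 ≤ n)
    (e : H ⧸ center H ≃* Matrix.ProjectiveSpecialLinearGroup (Fin n) F) :
    LowDeg ((Fintype.card F ^ (n - 1) - 1) / 2) H := by
  rcases Nat.eq_or_lt_of_le hn with h2 | h3
  · subst h2
    refine LowDeg.mono (low_psl2 hq hcop e) ?_
    rw [show 2 - 1 = 1 from rfl, pow_one]
    apply Nat.div_le_div_left
    · exact Nat.le_of_dvd (by norm_num) (Nat.gcd_dvd_left _ _)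
    · exact Nat.gcd_pos_of_pos_left _ (by norm_num)
  · exact LowDeg.mono (low_psl hq hcop h3 e) (Nat.div_le_self _ _)

/-- `PSp_2m` -/
theorem low_psp (hq : Cfsg.IsQuasisimple H) (hcop : ¬ p ∣ Nat.card (center H)) {m : ℕ} (hm : 1 ≤ m)
    (e : H ⧸ center H ≃* PSp m F) : LowDeg ((Fintype.card F ^ m - 1) / 2) H :=
  lowDeg_of_bd hp.out hq hcop (MulEquiv.refl _) (Cfsg.Agent.H175.BdSp.bd_psp hp.out rfl hm (hpC p) e)

/-- `PSU_n` -/
theorem low_psu (hq : Cfsg.IsQuasisimple H) (hcop : ¬ p ∣ Nat.card (center H)) {q : ℕ}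
    (hF : Fintype.card F = q ^ 2) {n : ℕ} (hn : 3 ≤ n) (e : H ⧸ center H ≃* PSU n F q) :
    LowDeg ((q - 1) * q ^ (n - 2)) H :=
  lowDeg_of_bd hp.out hq hcop (MulEquiv.refl _) (Cfsg.Agent.H175.BdSU.bd_psu hp.out hF hn (hpC p) e)

/-- `PSU_n`, the common bound -/
theorem low_psu' (hq : Cfsg.IsQuasisimple H) (hcop : ¬ p ∣ Nat.card (center H)) {q : ℕ}
    (hF : Fintype.card F = q ^ 2) {n : ℕ} (hn : 3 ≤ n) (e : H ⧸ center H ≃* PSU n F q) :
    LowDeg ((q ^ (n - 1) - 1) / 2) H := by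
  refine LowDeg.mono (low_psu hq hcop hF hn e) ?_
  have h2 : 2 ≤ q := by
    by_contra h
    have h1 : q ^ 2 ≤ 1 ^ 2 := Nat.pow_le_pow_left (by omega) 2
    have h3 := Fintype.one_lt_card (α := F)
    omega
  apply Nat.div_le_of_le_mul
  have h4 : q ^ (n - 1) = q * q ^ (n - 2) := by
    rw [← pow_succ', show n - 2 + 1 = n - 1 by omega]
  have h5 : q * q ^ (n - 2) ≤ 2 * (q - 1) * q ^ (n - 2) := Nat.mul_le_mul_right _ (by omega)
  rw [h4, ← mul_assoc]
  omega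

theorem card_pow' (F : Type) [Field F] [Fintype F] (p : ℕ) [CharP F p] : ∃ f : ℕ, Fintype.card F = p ^ f := by
  obtain ⟨f, -, hf⟩ := FiniteField.card F p
  exact ⟨f, hf⟩

theorem bd_mul {q k : ℕ} (hq : 2 ≤ q) {T : Type v} [Group T] {r : ℕ} (h : Bd ℂ r ((q - 1) * q ^ k) T) :
    Bd ℂ r (q ^ k) T := h.mono (Nat.le_mul_of_pos_left _ (by omega))

/-- **DM06** -/
theorem bd_oodd {m : ℕ} (hm : 3 ≤ m) (ho : Odd (Fintype.card F)) :
    Bd ℂ p (Fintype.card F ^ (2 * m - 3)) (POmega F (quadFormOdd m F)) := by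
  obtain ⟨f, hf⟩ := card_pow' F p
  have h2 : (2 : F) ≠ 0 := by
    intro h0
    have h3 := (CharP.cast_eq_zero_iff F p 2).1 (by exact_mod_cast h0)
    have h4 : p = 2 := (Nat.prime_dvd_prime_iff_eq hp.out Nat.prime_two).1 h3
    subst h4
    rcases Nat.eq_zero_or_pos f with h5 | h5
    · subst h5
      have := Fintype.one_lt_card (α := F)
      rw [hf, pow_zero] at this
      omega
    · rw [hf] at ho
      exact (Nat.not_even_iff_odd.2 ho) ((Nat.even_pow.2 ⟨even_two, h5.ne'⟩))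
  exact bd_mul Fintype.one_lt_card
    (Cfsg.Agent.H203.OrthHeis.bd_pomega_odd_heis hp.out (hpC p) hf h2 hm)

/-- **DM07** -/
theorem bd_oplus {m : ℕ} (hm : 4 ≤ m) : Bd ℂ p (Fintype.card F ^ (2 * m - 4)) (POmega F (quadFormPlus m F)) := by
  obtain ⟨f, hf⟩ := card_pow' F p
  exact bd_mul Fintype.one_lt_card (Cfsg.Agent.H203.OrthHeis.bd_pomega_plus_heis hp.out (hpC p) hf hm)

/-- **DM08** -/
theorem bd_ominus {m : ℕ} (hm : 4 ≤ m) {a b : F}
    (hab : ∀ z₁ z₂ : F, z₁ ^ 2 + a * z₁ * z₂ + b * z₂ ^ 2 = 0 → z₁ = 0 ∧ z₂ = 0) :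
    Bd ℂ p (Fintype.card F ^ (2 * m - 4)) (POmega F (quadFormMinus (m - 1) F a b)) := by
  obtain ⟨f, hf⟩ := card_pow' F p
  exact bd_mul Fintype.one_lt_card (Cfsg.Agent.H203.OrthHeis.bd_pomega_minus_heis hp.out (hpC p) hf hm hab)

/-- `POmega_{2m+1}`, `q` odd -/
theorem low_oodd (hq : Cfsg.IsQuasisimple H) (hcop : ¬ p ∣ Nat.card (center H)) {m : ℕ} (hm : 3 ≤ m)
    (ho : Odd (Fintype.card F)) (e : H ⧸ center H ≃* POmega F (quadFormOdd m F)) :
    LowDeg (Fintype.card F ^ m) H :=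
  LowDeg.mono (lowDeg_of_bd hp.out hq hcop e (bd_oodd hm ho)) (Nat.pow_le_pow_right Fintype.card_pos (by omega))

/-- `POmega+_{2m}` -/
theorem low_oplus (hq : Cfsg.IsQuasisimple H) (hcop : ¬ p ∣ Nat.card (center H)) {m : ℕ} (hm : 4 ≤ m)
    (e : H ⧸ center H ≃* POmega F (quadFormPlus m F)) : LowDeg (Fintype.card F ^ m) H :=
  LowDeg.mono (lowDeg_of_bd hp.out hq hcop e (bd_oplus hm)) (Nat.pow_le_pow_right Fintype.card_pos (by omega))

/-- `POmega-_{2m}` -/
theorem low_ominus (hq : Cfsg.IsQuasisimple H) (hcop : ¬ p ∣ Nat.card (center H)) {m : ℕ} (hm : 4 ≤ m) {a b : F}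
    (hab : ∀ z₁ z₂ : F, z₁ ^ 2 + a * z₁ * z₂ + b * z₂ ^ 2 = 0 → z₁ = 0 ∧ z₂ = 0)
    (e : H ⧸ center H ≃* POmega F (quadFormMinus (m - 1) F a b)) : LowDeg (Fintype.card F ^ m) H :=
  LowDeg.mono (lowDeg_of_bd hp.out hq hcop e (bd_ominus hm hab)) (Nat.pow_le_pow_right Fintype.card_pos (by omega))

theorem half_le (q m : ℕ) : (q ^ m - 1) / 2 ≤ q ^ m := (Nat.div_le_self _ _).trans (Nat.sub_le _ _)

end rows

end Cfsg.Agent.H887.DM
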